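import Cfsg.Agent.Lib.Spor.PermCert.Basic

/-!
A point stabiliser is maximal when no union of its orbits, the point included, has length a proper divisor of the
degree: the orbits are given by connecting words.
-/

set_option autoImplicit false

namespace CfsgLib.Lie.GTwoFourJTwo

open MulAction CfsgLib.Spor.PermCert

/-- Orbit data: for each piece a first point, and each point with a word from the first point fixing the base
point and a word from the base point. -/
abbrev Part := List (ℕ × List (ℕ × List ℕ × List ℕ))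

/-- The points of the pieces. -/
def points (C : Part) : List ℕ := C.flatMap fun c => c.2.map fun e => e.1

/-- A word moves one point to another, fixing some. -/
def moves (w : ℕ) (R : Rows) (len : ℕ) (fixed : List ℕ) (us : List ℕ) (x y : ℕ) : Bool :=
  (us.all fun u => Nat.blt u len) && (fixed.all fun c => Nat.beq (comp w R us c) c) && Nat.beq (comp w R us x) y

/-- The checks: every point is joined to the first one of its piece and to the base point, there are `m` of them, all
different, and no union of pieces containing the base point has length a proper divisor of `m`. -/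
def partOK (N w : ℕ) (R : Rows) (len : ℕ) (fixed : List ℕ) (b m : ℕ) (C : Part) : Bool :=
  Nat.blt b N && (fixed.all fun c => Nat.blt c N) &&
  (C.all fun c => Nat.blt c.1 N && ((c.2.map fun e => e.1).contains c.1) &&
    c.2.all fun e => Nat.blt e.1 N && moves w R len (b :: fixed) e.2.1 c.1 e.1 &&
      moves w R len fixed e.2.2 b e.1) &&
  decide (points C).Nodup && Nat.beq (points C).length m && ((C.map Prod.fst).contains b) &&
  C.sublists.all fun s => !(s.map Prod.fst).contains b || !decide ((points s).length ∣ m) ||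
    Nat.beq (points s).length 1 || Nat.beq (points s).length m

variable {N : ℕ} [NeZero N] {w : ℕ} {R : Rows} {len : ℕ} {M : Subgroup (Equiv.Perm (Fin N))}

theorem exists_moves (hmem : ∀ k < len, ∃ g ∈ M, Matches w g R k) {fixed us : List ℕ} {x y : ℕ}
    (h : moves w R len fixed us x y = true) (hf : ∀ c ∈ fixed, c < N) (hx : x < N) :
    ∃ g ∈ fixSub M fixed, g (pnt N x) = pnt N y := by
  simp only [moves, Bool.and_eq_true, List.all_eq_true] at h
  obtain ⟨⟨hus, hfix⟩, hxy⟩ := h
  obtain ⟨g, hg, hg'⟩ := exists_comp hmem us fun u hu => by simpa [Nat.blt_eq] using hus u hu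
  refine ⟨g, mem_fixSub.2 ⟨hg, fun c hc => Fin.ext ?_⟩, Fin.ext ?_⟩
  · rw [hg', pnt_val (hf c hc)]
    exact Nat.eq_of_beq_eq_true (hfix c hc)
  · have e : (g (pnt N x)).1 = y := by
      rw [hg', pnt_val hx]
      exact Nat.eq_of_beq_eq_true hxy
    rw [e, pnt_val (e ▸ (g (pnt N x)).2)]

theorem fixSub_cons_le (b : ℕ) (fixed : List ℕ) : fixSub M (b :: fixed) ≤ fixSub M fixed :=
  fun _ hg => mem_fixSub.2 ⟨hg.1, fun c hc => hg.2 c (List.mem_cons_of_mem _ hc)⟩

theorem orbit_mem (hmem : ∀ k < len, ∃ g ∈ M, Matches w g R k) {fixed : List ℕ} {b m : ℕ} {C : Part}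
    (hok : partOK N w R len fixed b m C = true) {y : ℕ} (hy : y ∈ points C) :
    y < N ∧ pnt N y ∈ orbit (fixSub M fixed) (pnt N b) := by
  simp only [partOK, Bool.and_eq_true, List.all_eq_true, Nat.blt_eq] at hok
  obtain ⟨⟨⟨⟨⟨⟨hb, hf⟩, hC⟩, -⟩, -⟩, -⟩, -⟩ := hok
  obtain ⟨c, hc, e, he, rfl⟩ : ∃ c ∈ C, ∃ e ∈ c.2, e.1 = y := by simpa [points] using hy
  obtain ⟨hlt, -⟩ := (hC c hc).2 e he |>.1
  obtain ⟨g, hg, hgb⟩ := exists_moves hmem ((hC c hc).2 e he).2 hf hb
  exact ⟨hlt, ⟨⟨g, hg⟩, hgb⟩⟩

/-- The stabiliser of the base point is maximal. -/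
theorem eq_of_between (hmem : ∀ k < len, ∃ g ∈ M, Matches w g R k) {fixed : List ℕ} {b m : ℕ} {C : Part}
    (hok : partOK N w R len fixed b m C = true)
    (horb : Nat.card ↥(orbit (fixSub M fixed) (pnt N b)) = m) (K : Subgroup (Equiv.Perm (Fin N)))
    (h1 : fixSub M (b :: fixed) < K) (h2 : K ≤ fixSub M fixed) : K = fixSub M fixed := by
  classical
  have hall : ∀ {y : ℕ}, y ∈ points C → y < N ∧ pnt N y ∈ orbit (fixSub M fixed) (pnt N b) := fun hy => orbit_mem hmem hok hy
  simp only [partOK, Bool.and_eq_true, List.all_eq_true, Nat.blt_eq, decide_eq_true_eq] at hok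
  obtain ⟨⟨⟨⟨⟨⟨hb, hf⟩, hC⟩, hnd⟩, hlen⟩, hbC⟩, hsum⟩ := hok
  have hlen' : (points C).length = m := Nat.eq_of_beq_eq_true hlen
  have hKS : fixSub K [b] = fixSub M (b :: fixed) := by
    ext g
    simp only [mem_fixSub, List.mem_singleton, forall_eq, List.forall_mem_cons]
    constructor
    · rintro ⟨hg, hgb⟩
      exact ⟨(h2 hg).1, hgb, (h2 hg).2⟩
    · rintro ⟨hg, hgb, hgf⟩
      exact ⟨h1.le (mem_fixSub.2 ⟨hg, List.forall_mem_cons.2 ⟨hgb, hgf⟩⟩), hgb⟩
  have hK0 : fixSub K [] = K := by ext g; simp [mem_fixSub]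
  -- the orbit of the subgroup, in the orbit of the whole
  have hsub : orbit ↥K (pnt N b) ⊆ orbit (fixSub M fixed) (pnt N b) := by
    rintro _ ⟨⟨k, hk⟩, rfl⟩
    exact ⟨⟨k, h2 hk⟩, rfl⟩
  have horbit : ∀ x ∈ orbit (fixSub M fixed) (pnt N b), x.1 ∈ points C := by
    have hinj : Set.InjOn (fun y : ℕ => pnt N y) {y | y ∈ points C} := fun y hy z hz e => by
      have := congrArg Fin.val e
      rwa [pnt_val (hall hy).1, pnt_val (hall hz).1] at this
    let T : Finset (Fin N) := (points C).toFinset.image (pnt N)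
    have hT : (T : Set (Fin N)) = orbit (fixSub M fixed) (pnt N b) := by
      refine Set.eq_of_subset_of_ncard_le ?_ ?_ (Set.toFinite _)
      · intro x hx
        obtain ⟨y, hy, rfl⟩ := Finset.mem_image.1 hx
        exact (hall (List.mem_toFinset.1 hy)).2
      · rw [← Nat.card_coe_set_eq, horb, Set.ncard_coe_finset, Finset.card_image_of_injOn
          (fun y hy z hz e => hinj (List.mem_toFinset.1 hy) (List.mem_toFinset.1 hz) e),
          List.toFinset_card_of_nodup hnd, hlen']
    intro x hx
    rw [← hT] at hx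
    obtain ⟨y, hy, rfl⟩ := Finset.mem_image.1 hx
    rw [pnt_val (hall (List.mem_toFinset.1 hy)).1]
    exact List.mem_toFinset.1 hy
  -- pieces are kept
  let s : Part := C.filter fun c => decide (pnt N c.1 ∈ orbit ↥K (pnt N b))
  have hpiece : ∀ c ∈ C, ∀ e ∈ c.2,
      (pnt N e.1 ∈ orbit ↥K (pnt N b) ↔ pnt N c.1 ∈ orbit ↥K (pnt N b)) := by
    intro c hc e he
    obtain ⟨g, hg, hge⟩ := exists_moves hmem ((hC c hc).2 e he).1.2
      (List.forall_mem_cons.2 ⟨hb, hf⟩) (hC c hc).1.1
    let g' : ↥K := ⟨g, h1.le hg⟩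
    have e1 : g' • pnt N c.1 = pnt N e.1 := hge
    constructor
    · intro h
      have := MulAction.mem_orbit_iff.1 h
      obtain ⟨k, hk⟩ := this
      refine ⟨g'⁻¹ * k, ?_⟩
      show (g'⁻¹ * k) • pnt N b = _
      rw [mul_smul, hk, ← e1, inv_smul_smul]
    · rintro ⟨k, hk⟩
      refine ⟨g' * k, ?_⟩
      show (g' * k) • pnt N b = _
      rw [mul_smul, show k • pnt N b = pnt N c.1 from hk, e1]
  have hset : orbit ↥K (pnt N b) = (((points s).toFinset.image (pnt N) : Finset (Fin N)) : Set (Fin N)) := by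
    ext x
    simp only [Finset.coe_image, Set.mem_image, Finset.mem_coe, List.mem_toFinset]
    constructor
    · intro hx
      have hp := horbit x (hsub hx)
      obtain ⟨c, hc, e, he, hex⟩ : ∃ c ∈ C, ∃ e ∈ c.2, e.1 = x.1 := by simpa [points] using hp
      have hxe : pnt N e.1 = x := Fin.ext (by rw [pnt_val (hex ▸ x.2), hex])
      refine ⟨e.1, ?_, hxe⟩
      simp only [points, List.mem_flatMap, List.mem_map, s, List.mem_filter, decide_eq_true_eq]
      exact ⟨c, ⟨hc, (hpiece c hc e he).1 (by rw [hxe]; exact hx)⟩, e, he, rfl⟩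
    · rintro ⟨y, hy, rfl⟩
      simp only [points, List.mem_flatMap, List.mem_map, s, List.mem_filter, decide_eq_true_eq] at hy
      obtain ⟨c, ⟨hc, hck⟩, e, he, rfl⟩ := hy
      exact (hpiece c hc e he).2 hck
  have hssub : s.Sublist C := List.filter_sublist
  have hps : (points s).Sublist (points C) := by
    rw [points, points, List.flatMap_def, List.flatMap_def]
    exact (hssub.map (fun c => c.2.map fun e => e.1)).flatten
  have hcard : Nat.card ↥(orbit ↥K (pnt N b)) = (points s).length := by
    rw [hset, Nat.card_coe_set_eq, Set.ncard_coe_finset, Finset.card_image_of_injOn,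
      List.toFinset_card_of_nodup (hnd.sublist hps)]
    intro y hy z hz e
    have := congrArg Fin.val e
    rwa [pnt_val (hall (hps.subset (List.mem_toFinset.1 hy))).1,
      pnt_val (hall (hps.subset (List.mem_toFinset.1 hz))).1] at this
  -- counting
  have e1 : Nat.card ↥K = Nat.card ↥(orbit ↥K (pnt N b)) * Nat.card ↥(fixSub M (b :: fixed)) := by
    have := card_fixSub_cons K b []
    rwa [hKS, hK0] at this
  have e2 : Nat.card ↥(fixSub M fixed) = m * Nat.card ↥(fixSub M (b :: fixed)) := by
    rw [card_fixSub_cons M b fixed, horb]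
  have hdvd : (points s).length ∣ m := by
    have := Subgroup.card_dvd_of_le h2
    rw [e1, e2, hcard] at this
    exact (Nat.mul_dvd_mul_iff_right Nat.card_pos).1 this
  have hbs : (s.map Prod.fst).contains b = true := by
    have hp := (hset ▸ mem_orbit_self (pnt N b) :
      pnt N b ∈ (((points s).toFinset.image (pnt N) : Finset (Fin N)) : Set (Fin N)))
    rw [List.contains_iff_mem, List.mem_map]
    obtain ⟨c, hc, hcb⟩ : ∃ c ∈ C, c.1 = b := by
      have hb' : b ∈ C.map Prod.fst := List.contains_iff_mem.1 hbC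
      simpa using hb'
    refine ⟨c, List.mem_filter.2 ⟨hc, decide_eq_true ?_⟩, hcb⟩
    rw [hcb]
    exact mem_orbit_self _
  have hs' := hsum s (List.mem_sublists.2 hssub)
  rw [hbs, decide_eq_true hdvd] at hs'
  simp only [Bool.not_true, Bool.false_or, Bool.or_eq_true] at hs'
  refine Subgroup.eq_of_le_of_card_ge h2 ?_
  rcases hs' with h | h
  · exfalso
    rw [Nat.eq_of_beq_eq_true h] at hcard
    rw [hcard, one_mul] at e1
    exact h1.ne (Subgroup.eq_of_le_of_card_ge h1.le e1.le)
  · rw [e1, e2, hcard, Nat.eq_of_beq_eq_true h]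

end CfsgLib.Lie.GTwoFourJTwo
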