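import Cfsg.Agent.Lib.Lie.GTwoFourJTwo.Data
import Cfsg.Agent.Lib.Lie.GTwoFourJTwo.Prim
import Cfsg.Agent.Lib.Lie.MultExc.GTwoFour.Table
import Cfsg.Agent.Lib.Char.J2.Hundred

/-!
The checks on the orbit data of the Hall-Janko point stabiliser.
-/

set_option autoImplicit false
set_option maxRecDepth 100000
set_option maxHeartbeats 0

namespace CfsgLib.Lie.GTwoFourJTwo

open CfsgLib.Spor.PermCert CfsgLib.Lie.MultExc.GTwoFour

theorem far_ok : partOK 416 tab.w tab.R tab.len [2] 0 315 farPart = true := by decide +kernel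

end CfsgLib.Lie.GTwoFourJTwo
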