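import Cfsg.Agent.Lib.Lie.GTwoFourJTwo.Data
import Cfsg.Agent.Lib.Lie.GTwoFourJTwo.Prim
import Cfsg.Agent.Lib.Lie.MultExc.GTwoFour.Table
import Cfsg.Agent.Lib.Char.J2.Hundred

/-!
The checks on the orbit data of the Hall-Janko point stabiliser.
-/

set_option autoImplicit false
set_option maxRecDepth 100000
set_option maxHeartbeats 0

namespace CfsgLib.Lie.GTwoFourJTwo

open CfsgLib.Spor.PermCert CfsgLib.Lie.MultExc.GTwoFour

/-- The identification of the hundred points. -/
theorem sigma_ok : (Nat.beq sigma.length 100 && decide sigma.Nodup &&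
    ((points nearPart).all fun y => sigma.contains y) && (sigma.all fun y => (points nearPart).contains y) &&
    (List.range 4).all fun k => (reflWords.getD k []).all (fun u => Nat.blt u tab.len) &&
      Nat.beq (comp tab.w tab.R (reflWords.getD k []) 2) 2 &&
      (List.range 100).all fun b => Nat.beq (comp tab.w tab.R (reflWords.getD k []) (sigma.getD b 0))
        (sigma.getD (CfsgLib.Char.J2.gB k b) 0)) = true := by decide +kernel

end CfsgLib.Lie.GTwoFourJTwo
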