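import Cfsg.Agent.Lib.Lie.GTwoFourJTwo.CheckTop
import Cfsg.Agent.Lib.Lie.GTwoFourJTwo.CheckNear
import Cfsg.Agent.Lib.Lie.GTwoFourJTwo.CheckFar
import Cfsg.Agent.Lib.Lie.GTwoFourJTwo.CheckRest
import Cfsg.Agent.Lib.Lie.GTwoFourJTwo.CheckSigma

/-!
The checks on the orbit data of the Hall-Janko point stabiliser.
-/
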