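import Cfsg.Agent.Lib.Lie.GTwoFourJTwo.Checks
import Cfsg.Agent.Lib.Lie.MultExc.GTwoFour.Group
import Cfsg.Agent.Lib.Spor.OutJTwo
import Cfsg.Agent.Lib.Lie.Chev.GoodG2
import Cfsg.Agent.Lib.Lie.Chev.FieldMap

/-!
The group of type `G` over four elements on four hundred and sixteen points: the stabiliser of a point is the
Hall-Janko group, maximal, and each two-point stabiliser is maximal in it.
-/

set_option autoImplicit false

namespace CfsgLib.Lie.GTwoFourJTwo

open MulAction CfsgLib.Spor.PermCert CfsgLib.Lie.MultExc CfsgLib.Lie.MultExc.GTwoFour Cfsg.Lie CfsgLib.Lie.Chev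

theorem trans_prod : (tab.trans.map List.length).prod = 251596800 := by decide +kernel

theorem pnt_eq {N : ℕ} [NeZero N] (a : Fin N) : pnt N a.1 = a := Fin.ext (pnt_val a.2)

section

variable {N : ℕ} [NeZero N] {w : ℕ} {R : Rows} {len : ℕ} {M : Subgroup (Equiv.Perm (Fin N))}

theorem le_card_orbit (hmem : ∀ k < len, ∃ g ∈ M, Matches w g R k) {fixed : List ℕ} {b m : ℕ} {C : Part}
    (hok : partOK N w R len fixed b m C = true) :
    m ≤ Nat.card ↥(orbit (fixSub M fixed) (pnt N b)) := by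
  classical
  have hall := fun {y : ℕ} (hy : y ∈ points C) => orbit_mem hmem hok hy
  simp only [partOK, Bool.and_eq_true, decide_eq_true_eq] at hok
  obtain ⟨⟨⟨⟨-, hnd⟩, hlen⟩, -⟩, -⟩ := hok
  let T : Finset (Fin N) := (points C).toFinset.image (pnt N)
  have hT : T.card = m := by
    rw [Finset.card_image_of_injOn, List.toFinset_card_of_nodup hnd, Nat.eq_of_beq_eq_true hlen]
    intro y hy z hz e
    have := congrArg Fin.val e
    rwa [pnt_val (hall (List.mem_toFinset.1 hy)).1, pnt_val (hall (List.mem_toFinset.1 hz)).1] at this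
  have hsub : (T : Set (Fin N)) ⊆ orbit (fixSub M fixed) (pnt N b) := by
    intro x hx
    obtain ⟨y, hy, rfl⟩ := Finset.mem_image.1 hx
    exact (hall (List.mem_toFinset.1 hy)).2
  rw [← hT, ← Set.ncard_coe_finset, Nat.card_coe_set_eq]
  exact Set.ncard_le_ncard hsub (Set.toFinite _)

/-- Points with conjugate stabilisers have the same kind of stabiliser. -/
theorem eq_of_between_conj {fixed : List ℕ} {a b : ℕ} {h : Equiv.Perm (Fin N)} (hh : h ∈ fixSub M fixed)
    (hab : h (pnt N b) = pnt N a)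
    (hb : ∀ K, fixSub M (b :: fixed) < K → K ≤ fixSub M fixed → K = fixSub M fixed)
    (K : Subgroup (Equiv.Perm (Fin N))) (h1 : fixSub M (a :: fixed) < K) (h2 : K ≤ fixSub M fixed) :
    K = fixSub M fixed := by
  have hfix : ∀ g, g ∈ fixSub M fixed → h * g * h⁻¹ ∈ fixSub M fixed ∧ h⁻¹ * g * h ∈ fixSub M fixed :=
    fun g hg => ⟨mul_mem (mul_mem hh hg) (inv_mem hh), mul_mem (mul_mem (inv_mem hh) hg) hh⟩
  let c : Equiv.Perm (Fin N) →* Equiv.Perm (Fin N) := (MulAut.conj h).toMonoidHom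
  have hc : ∀ g, c g = h * g * h⁻¹ := fun _ => rfl
  have hba : ∀ g, g ∈ fixSub M (b :: fixed) → c g ∈ fixSub M (a :: fixed) := by
    intro g hg
    have hg' := fixSub_cons_le b fixed hg
    refine mem_fixSub.2 ⟨(hfix g hg').1.1, List.forall_mem_cons.2 ⟨?_, (hfix g hg').1.2⟩⟩
    rw [hc, ← hab]
    show h (g (h.symm (h (pnt N b)))) = _
    rw [Equiv.symm_apply_apply, hg.2 b List.mem_cons_self]
  have hK : K.comap c = fixSub M fixed := by
    refine hb _ ?_ fun g hg => ?_
    · refine lt_of_le_of_ne (fun g hg => h1.le (hba g hg)) fun e => ?_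
      refine h1.not_ge fun k hk => ?_
      have hm : h⁻¹ * k * h ∈ K.comap c := by
        show h * (h⁻¹ * k * h) * h⁻¹ ∈ K
        rwa [show h * (h⁻¹ * k * h) * h⁻¹ = k by group]
      rw [← e] at hm
      have := hba _ hm
      rwa [hc, show h * (h⁻¹ * k * h) * h⁻¹ = k by group] at this
    · have := (hfix _ (h2 hg)).2
      rwa [hc, show h⁻¹ * (h * g * h⁻¹) * h = g by group] at this
  refine le_antisymm h2 fun g hg => ?_
  have hm : h⁻¹ * g * h ∈ K.comap c := hK ▸ (hfix g hg).2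
  have hm' : h * (h⁻¹ * g * h) * h⁻¹ ∈ K := hm
  rwa [show h * (h⁻¹ * g * h) * h⁻¹ = g by group] at hm'

end

variable {M : Subgroup (Equiv.Perm (Fin 416))}

theorem card_top (hM : Model 416 tab M) :
    Nat.card ↥(orbit (fixSub M []) (pnt 416 2)) = 416 ∧ Nat.card ↥(fixSub M [2]) = 604800 := by
  have h1 : Nat.card ↥(orbit (fixSub M []) (pnt 416 2)) = 416 := by
    refine le_antisymm ?_ (le_card_orbit hM.elt top_ok)
    have := Nat.card_le_card_of_injective
      (Subtype.val : ↥(orbit (fixSub M []) (pnt 416 2)) → Fin 416) Subtype.val_injective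
    rwa [Nat.card_fin] at this
  refine ⟨h1, ?_⟩
  have e : fixSub M [] = M := by ext g; simp [mem_fixSub]
  have := card_fixSub_cons M 2 []
  rw [h1, e, hM.card, trans_prod] at this
  omega

theorem orbit_split (hM : Model 416 tab M) {a : Fin 416} (ha : a ≠ pnt 416 2) :
    a ∈ orbit (fixSub M [2]) (pnt 416 12) ∨ a ∈ orbit (fixSub M [2]) (pnt 416 0) := by
  have h := rest_ok
  simp only [List.all_eq_true, List.mem_range, Bool.or_eq_true, List.contains_iff_mem] at h
  rcases h a.1 a.2 with (h | h) | h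
  · exact absurd (Fin.ext (by rw [pnt_val (by norm_num)]; exact Nat.eq_of_beq_eq_true h)) ha
  · exact Or.inl (pnt_eq a ▸ (orbit_mem hM.elt near_ok h).2)
  · exact Or.inr (pnt_eq a ▸ (orbit_mem hM.elt far_ok h).2)

theorem card_parts (hM : Model 416 tab M) :
    Nat.card ↥(orbit (fixSub M [2]) (pnt 416 12)) = 100 ∧ Nat.card ↥(orbit (fixSub M [2]) (pnt 416 0)) = 315 := by
  set A := orbit (fixSub M [2]) (pnt 416 12)
  set B := orbit (fixSub M [2]) (pnt 416 0)
  have hA : 100 ≤ Nat.card ↥A := le_card_orbit hM.elt near_ok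
  have hB : 315 ≤ Nat.card ↥B := le_card_orbit hM.elt far_ok
  have h2 : ∀ b : ℕ, b < 416 → b ≠ 2 → pnt 416 2 ∉ orbit (fixSub M [2]) (pnt 416 b) := by
    intro b hb hb2 hmem
    obtain ⟨g, hg⟩ := mem_orbit_iff.1 hmem
    have hfix : g.1 (pnt 416 2) = pnt 416 2 := g.2.2 2 (List.mem_singleton.2 rfl)
    have := congrArg Fin.val (g.1.injective ((show g.1 (pnt 416 b) = pnt 416 2 from hg).trans hfix.symm))
    rw [pnt_val hb, pnt_val (by norm_num)] at this
    exact hb2 this
  have hU : A ∪ B = {pnt 416 2}ᶜ := by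
    refine Set.Subset.antisymm ?_ fun a ha => orbit_split hM ha
    rintro a (h | h) rfl
    · exact h2 12 (by norm_num) (by norm_num) h
    · exact h2 0 (by norm_num) (by norm_num) h
  have hc : (A ∪ B).ncard = 415 := by
    rw [hU, Set.ncard_compl, Set.ncard_singleton, Nat.card_fin]
  have hne : A ≠ B := by
    intro e
    have hd : Nat.card ↥A ∣ 604800 := (card_top hM).2 ▸ Dvd.intro _ (card_fixSub_cons M 12 [2]).symm
    rw [← e, Set.union_self, ← Nat.card_coe_set_eq] at hc
    rw [hc] at hd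
    omega
  have hdis : Disjoint A B := by
    rw [Set.disjoint_left]
    intro a h1 h2
    exact hne ((orbit_eq_iff.2 h1).symm.trans (orbit_eq_iff.2 h2))
  rw [Set.ncard_union_eq hdis (Set.toFinite _) (Set.toFinite _), ← Nat.card_coe_set_eq, ← Nat.card_coe_set_eq] at hc
  omega

/-- The stabiliser of a second point is maximal in the stabiliser of the first. -/
theorem pair_maximal (hM : Model 416 tab M) {a : Fin 416} (ha : a ≠ pnt 416 2) :
    fixSub M [a.1, 2] ≠ fixSub M [2] ∧
      ∀ K, fixSub M [a.1, 2] < K → K ≤ fixSub M [2] → K = fixSub M [2] := by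
  obtain ⟨hA, hB⟩ := card_parts hM
  have key : ∀ {b m : ℕ} {C : Part}, partOK 416 tab.w tab.R tab.len [2] b m C = true →
      Nat.card ↥(orbit (fixSub M [2]) (pnt 416 b)) = m → 1 < m → a ∈ orbit (fixSub M [2]) (pnt 416 b) →
      fixSub M [a.1, 2] ≠ fixSub M [2] ∧
        ∀ K, fixSub M [a.1, 2] < K → K ≤ fixSub M [2] → K = fixSub M [2] := by
    intro b m C hok hm hm1 hab
    obtain ⟨⟨h, hh⟩, hh'⟩ := mem_orbit_iff.1 hab
    refine ⟨fun e => ?_, fun K => eq_of_between_conj hh (by rw [pnt_eq]; exact hh')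
      (eq_of_between hM.elt hok hm) K⟩
    have := card_fixSub_cons M a.1 [2]
    rw [e, pnt_eq, orbit_eq_iff.2 hab, hm] at this
    have hp : 0 < Nat.card ↥(fixSub M [2]) := Nat.card_pos
    nlinarith
  rcases orbit_split hM ha with h | h
  · exact key near_ok hA (by norm_num) h
  · exact key far_ok hB (by norm_num) h

open CfsgLib.Char.J2 CfsgLib.Spor.OutJTwo in
theorem stab_iso (hM : Model 416 tab M) : Nonempty (↥(fixSub M [2]) ≃* Cfsg.Spor.J2) := by
  obtain ⟨hA, -⟩ := card_parts hM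
  have hs := sigma_ok
  simp only [Bool.and_eq_true, List.all_eq_true, List.mem_range, decide_eq_true_eq, List.contains_iff_mem,
    Nat.blt_eq] at hs
  obtain ⟨⟨⟨⟨hlen, hnd⟩, -⟩, hsn⟩, hw⟩ := hs
  have hlen' : sigma.length = 100 := Nat.eq_of_beq_eq_true hlen
  have hget : ∀ i : Fin 100, sigma.getD i.1 0 ∈ sigma := fun i => by
    rw [List.getD_eq_getElem _ _ (by rw [hlen']; exact i.2)]
    exact List.getElem_mem _
  let f : Fin 100 → ↥(orbit (fixSub M [2]) (pnt 416 12)) := fun i =>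
    ⟨pnt 416 (sigma.getD i.1 0), (orbit_mem hM.elt near_ok (hsn _ (hget i))).2⟩
  have hf : ∀ i, (f i).1.1 = sigma.getD i.1 0 := fun i =>
    pnt_val (orbit_mem hM.elt near_ok (hsn _ (hget i))).1
  have hinj : Function.Injective f := by
    intro i j e
    have := congrArg (fun z => z.1.1) e
    simp only [hf] at this
    rw [List.getD_eq_getElem _ _ (by rw [hlen']; exact i.2),
      List.getD_eq_getElem _ _ (by rw [hlen']; exact j.2)] at this
    exact Fin.ext ((hnd.getElem_inj_iff).1 this)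
  let ε := Equiv.ofBijective f ((Nat.bijective_iff_injective_and_card f).2 ⟨hinj, by rw [hA, Nat.card_fin]⟩)
  let r : ↥(fixSub M [2]) →* Equiv.Perm (Fin 100) :=
    ε.symm.permCongrHom.toMonoidHom.comp (toPermHom ↥(fixSub M [2]) _)
  have hr : ∀ (g : ↥(fixSub M [2])) (b : Fin 100), (f (r g b)).1 = g.1 (f b).1 := by
    intro g b
    show (ε (ε.symm (g • ε b))).1 = _
    rw [Equiv.apply_symm_apply]
    rfl
  have hgen : ∀ k : Fin 4, (gen k).1 ∈ r.range := by
    intro k
    obtain ⟨⟨hlt, h2⟩, hb⟩ := hw k.1 k.2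
    obtain ⟨g, hg, hg'⟩ := exists_comp hM.elt _ hlt
    have hfix : g ∈ fixSub M [2] := mem_fixSub.2 ⟨hg, fun c hc => by
      rw [List.mem_singleton.1 hc]
      refine Fin.ext ?_
      rw [hg', pnt_val (by norm_num)]
      exact Nat.eq_of_beq_eq_true h2⟩
    refine ⟨⟨g, hfix⟩, Equiv.ext fun b => hinj (Subtype.ext (Fin.ext ?_))⟩
    rw [hr, hg', hf, hf, gen_apply]
    exact Nat.eq_of_beq_eq_true (hb b.1 b.2)
  have hle : P100 ≤ r.range := by
    have : P100 = (Subgroup.closure (Set.range gen)).map P100.subtype := by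
      rw [closure_gen, ← MonoidHom.range_eq_map, Subgroup.range_subtype]
    rw [this, MonoidHom.map_closure, Subgroup.closure_le]
    rintro _ ⟨_, ⟨k, rfl⟩, rfl⟩
    exact hgen k
  have hcard := (card_top hM).2
  have hrc : Nat.card ↥r.range ≤ 604800 :=
    hcard ▸ Nat.card_le_card_of_surjective r.rangeRestrict r.rangeRestrict_surjective
  have hP : P100 = r.range := Subgroup.eq_of_le_of_card_ge hle (by rw [card_P100]; exact hrc)
  have hbij : Function.Bijective r.rangeRestrict :=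
    (Nat.bijective_iff_surjective_and_card _).2 ⟨r.rangeRestrict_surjective, by rw [hcard, ← hP, card_P100]⟩
  exact ⟨((MulEquiv.ofBijective _ hbij).trans (MulEquiv.subgroupCongr hP.symm)).trans equivP100.symm⟩

/-- The conclusion, in any group with such an action. -/
theorem extremely_primitive (hM : Model 416 tab M) {G : Type*} [Group G] (e : ↥M ≃* G) :
    ∃ H : Subgroup G, IsCoatom H ∧ Cfsg.Spor.IsoJ2 H ∧
      ∀ x : G, x ∉ H → IsCoatom ((H ⊓ H.map (MulAut.conj x).toMonoidHom).subgroupOf H) := by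
  let φ : G →* Equiv.Perm (Fin 416) := M.subtype.comp e.symm.toMonoidHom
  have hφ : Function.Injective φ := fun a b h => e.symm.injective (Subtype.ext h)
  have hφM : ∀ g, φ g ∈ M := fun g => (e.symm g).2
  have hsurj : ∀ p ∈ M, ∃ g, φ g = p := fun p hp => ⟨e ⟨p, hp⟩, by
    show (e.symm (e ⟨p, hp⟩)).1 = p
    rw [MulEquiv.symm_apply_apply]⟩
  set S := fixSub M [2] with hS
  have hnil : fixSub M [] = M := by ext g; simp [mem_fixSub]
  obtain ⟨htop, hcard⟩ := card_top hM
  refine ⟨S.comap φ, ⟨fun h => ?_, fun K hK => ?_⟩, ?_, fun x hx => ⟨fun h => ?_, fun L hL => ?_⟩⟩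
  · have hle : M ≤ S := fun p hp => by
      obtain ⟨g, rfl⟩ := hsurj p hp
      have : g ∈ S.comap φ := h ▸ Subgroup.mem_top g
      exact this
    have := Subgroup.card_le_of_le hle
    rw [hcard, hM.card, trans_prod] at this
    norm_num at this
  · have hlt : S < K.map φ := by
      refine lt_of_le_of_ne (fun p hp => ?_) fun e' => hK.ne ?_
      · obtain ⟨g, rfl⟩ := hsurj p hp.1
        exact ⟨g, hK.le hp, rfl⟩
      · rw [e', Subgroup.comap_map_eq_self_of_injective hφ]
    have := eq_of_between hM.elt top_ok htop (K.map φ) hlt (by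
      rintro _ ⟨g, -, rfl⟩
      exact mem_fixSub.2 ⟨hφM g, by simp⟩)
    rw [hnil] at this
    refine eq_top_iff.2 fun g _ => ?_
    obtain ⟨g', hg', he⟩ := (this.symm ▸ hφM g : φ g ∈ K.map φ)
    exact hφ he ▸ hg'
  · obtain ⟨i⟩ := stab_iso hM
    have hb : Function.Bijective (φ.subgroupComap S) := ⟨fun a b h => Subtype.ext (hφ (congrArg (fun z => z.1) h : _)),
      fun p => by
        obtain ⟨g, hg⟩ := hsurj p.1 p.2.1
        exact ⟨⟨g, by rw [Subgroup.mem_comap, hg]; exact p.2⟩, Subtype.ext hg⟩⟩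
    exact ⟨(MulEquiv.ofBijective _ hb).trans i⟩
  all_goals
    have ha : φ x (pnt 416 2) ≠ pnt 416 2 := fun h' => hx (mem_fixSub.2 ⟨hφM x, fun c hc => by
      rw [List.mem_singleton.1 hc]; exact h'⟩)
    obtain ⟨hne, hmax⟩ := pair_maximal hM ha
    have hpair : ∀ g, g ∈ S.comap φ ⊓ (S.comap φ).map (MulAut.conj x).toMonoidHom ↔
        φ g ∈ fixSub M [(φ x (pnt 416 2)).1, 2] := by
      intro g
      simp only [Subgroup.mem_inf, Subgroup.mem_map, Subgroup.mem_comap, hS, mem_fixSub, List.forall_mem_cons,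
        List.mem_singleton, forall_eq, pnt_eq, hφM, true_and, MulEquiv.coe_toMonoidHom, MulAut.conj_apply]
      constructor
      · rintro ⟨h2, y, hy, rfl⟩
        refine ⟨?_, h2⟩
        rw [map_mul, map_mul, map_inv]
        show φ x (φ y ((φ x).symm (φ x (pnt 416 2)))) = _
        rw [Equiv.symm_apply_apply, hy]
      · rintro ⟨h1, h2⟩
        refine ⟨h2, x⁻¹ * g * x, ?_, by group⟩
        rw [map_mul, map_mul, map_inv]
        show (φ x).symm (φ g (φ x (pnt 416 2))) = _
        rw [h1, Equiv.symm_apply_apply]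
  · refine hne (le_antisymm (fixSub_cons_le _ _) fun p hp => ?_)
    obtain ⟨g, rfl⟩ := hsurj p hp.1
    refine (hpair g).1 ?_
    have : (⟨g, hp⟩ : ↥(S.comap φ)) ∈ (S.comap φ ⊓ (S.comap φ).map (MulAut.conj x).toMonoidHom).subgroupOf
        (S.comap φ) := h ▸ Subgroup.mem_top _
    exact this
  · set K := (L.map (S.comap φ).subtype).map φ with hKdef
    have hKS : K ≤ S := by
      rintro _ ⟨_, ⟨g, -, rfl⟩, rfl⟩
      exact g.2
    have hlt : fixSub M [(φ x (pnt 416 2)).1, 2] < K := by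
      refine lt_of_le_of_ne (fun p hp => ?_) fun e' => ?_
      · obtain ⟨g, rfl⟩ := hsurj p hp.1
        have hg := (hpair g).2 hp
        exact ⟨g, ⟨⟨g, hg.1⟩, hL.le hg, rfl⟩, rfl⟩
      · refine hL.not_ge fun g hg => (hpair g.1).2 ?_
        rw [e']
        exact ⟨g.1, ⟨g, hg, rfl⟩, rfl⟩
    have := hmax K hlt hKS
    refine eq_top_iff.2 fun g _ => ?_
    have hg : φ g.1 ∈ K := this.symm ▸ (g.2 : φ g.1 ∈ S)
    obtain ⟨_, ⟨g', hg', rfl⟩, he⟩ := hg
    rwa [show g = g' from Subtype.ext (hφ he.symm)]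

theorem g2_four_extremely_primitive {F : Type*} [Field F] [Fintype F] (hF : Fintype.card F = 4) :
    ∃ H : Subgroup (chevG2.group F), IsCoatom H ∧ Cfsg.Spor.IsoJ2 H ∧
      ∀ x : chevG2.group F, x ∉ H → IsCoatom ((H ⊓ H.map (MulAut.conj x).toMonoidHom).subgroupOf H) := by
  obtain ⟨M, hM, ⟨e⟩⟩ := exists_g24Model
  let ι : CfsgLib.Spor.Fi22.U6.Four ≃+* F :=
    FiniteField.ringEquivOfCardEq (CfsgLib.Spor.Fi22.U6.Four.card_four.trans hF.symm)
  obtain ⟨f⟩ := goodG2.nonempty_groupEquiv ι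
  exact extremely_primitive hM (e.trans f)

end CfsgLib.Lie.GTwoFourJTwo
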